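import Groth.Agent.Deform.LinSect.Induct
import Groth.Agent.Deform.AntiAffineParts
import Groth.Agent.Deform.Borel.General
import Groth.Agent.Deform.Borel.UnipRad
import Groth.Agent.GrpSchLib.ImageFactor
import Groth.Agent.FBaseLib.Basic
import Groth.Agent.Lib.AVMulN
import Groth.Agent.Lib.AVDual
import Groth.Agent.S14751

/-!
# Anti-affine groups in positive characteristic have no unipotent part
-/

set_option autoImplicit false
set_option linter.style.haveILetI false
set_option linter.unusedSectionVars false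
set_option maxHeartbeats 1000000

universe u

open CategoryTheory CategoryTheory.Limits MonoidalCategory CartesianMonoidalCategory AlgebraicGeometry
open scoped MonObj
open Groth.Agent.Deform.SpecialGrp (isoOfGrp exists_descQC exists_step)
open Groth.Agent.GrpSchLib

attribute [local instance] CategoryTheory.Hom.monoid CategoryTheory.Hom.group

noncomputable section

namespace Groth.Agent.Deform.AntiUnip

variable {k : Type u} [Field k] (p : ℕ) [CharP k p]

theorem Ga_pow_char {T : Over (Spec (CommRingCat.of k))} (x : T ⟶ Red.Ga (Spec (CommRingCat.of k))) : x ^ p = 1 := by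
  refine GaPts.gaFn_injective ?_
  show Red.gaFn _ = Red.gaFn _
  have h : ∀ n : ℕ, Red.gaFn (x ^ n) = (n : Γ(T.left, ⊤)) * Red.gaFn x := by
    intro n
    induction n with
    | zero => rw [pow_zero, GaPts.gaFn_one, Nat.cast_zero, MulZeroClass.zero_mul]
    | succ n ih => rw [pow_succ, GaPts.gaFn_mul, ih, Nat.cast_succ, add_mul, _root_.one_mul]
  have hp : ((p : Γ(T.left, ⊤))) = 0 := by
    rw [← map_natCast ((Scheme.ΓSpecIso (CommRingCat.of k)).inv ≫ T.hom.appTop).hom p, CharP.cast_eq_zero, map_zero]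
  rw [h, hp, MulZeroClass.zero_mul, GaPts.gaFn_one]

variable [IsAlgClosed k]

/-- A connected commutative unipotent group is killed by a power of the characteristic. -/
theorem exists_pow_eq_one {U₀ : Over (Spec (CommRingCat.of k))} [GrpObj U₀] [IsAffine U₀.left]
    [LocallyOfFiniteType U₀.hom] :
    ∀ (Z : TopologicalSpace.Closeds U₀.left) (U : Over (Spec (CommRingCat.of k))) [GrpObj U] [IsCommMonObj U]
      [Smooth U.hom] [ConnectedSpace U.left] (iU : U ⟶ U₀) [IsMonHom iU] [IsClosedImmersion iU.left],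
      Red.HasNoSubtorus k U → Set.range iU.left = Z → ∃ n : ℕ, (𝟙 U : U ⟶ U) ^ p ^ n = 1 := by
  haveI : IsLocallyNoetherian U₀.left := LocallyOfFiniteType.isLocallyNoetherian U₀.hom
  haveI : IsNoetherian U₀.left := {}
  intro Z
  induction Z using WellFoundedLT.induction with
  | ind Z IH =>
    intro U _ _ _ _ iU _ _ hU hZ
    haveI : IsAffine U.left := isAffine_of_isAffineHom iU.left
    by_cases hB : Red.IsTrivialGrp U
    · haveI : IsIso U.hom := hB
      exact ⟨0, Over.OverMorphism.ext (by rw [← cancel_mono U.hom, Over.w, Over.w])⟩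
    haveI := LinSect.isSolvable_pt U
    obtain ⟨J, gJ, j, Q, gQ, q, hj, hjc, hJs, hJc, hq, hqs, hkq, hQ, hne⟩ := exists_step U hB
    letI := gJ; letI := gQ
    haveI := hj; haveI := hjc; haveI := hJs; haveI := hJc; haveI := hq; haveI := hqs
    haveI := LinSect.mono_of_closed j
    haveI : IsCommMonObj J := AVRosati.SubAV.isCommMonObj_of_mono j
    haveI : IsClosedImmersion (j ≫ iU).left := inferInstanceAs (IsClosedImmersion (j.left ≫ iU.left))
    let Z' : TopologicalSpace.Closeds U₀.left := ⟨_, (j ≫ iU).left.isClosedEmbedding.isClosed_range⟩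
    have hlt : Z' < Z := by
      refine lt_of_le_of_ne ?_ fun e => hne ?_
      · intro x hx
        obtain ⟨y, rfl⟩ := hx
        show _ ∈ (Z : Set U₀.left)
        rw [← hZ]
        exact ⟨j.left y, rfl⟩
      · refine Set.eq_univ_of_forall fun b => ?_
        have hb : iU.left b ∈ (Z' : Set U₀.left) := by rw [e, ← hZ]; exact ⟨b, rfl⟩
        obtain ⟨y, hy⟩ := hb
        exact ⟨y, iU.left.isClosedEmbedding.injective hy⟩
    have hJn : Red.HasNoSubtorus k J := fun T _ t _ _ hT => hU T (t ≫ j) hT
    obtain ⟨n, hn⟩ := IH Z' hlt J (j ≫ iU) hJn rfl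
    rcases hQ with ⟨⟨g⟩⟩ | ⟨⟨g⟩⟩
    · haveI : IsMonHom (isoOfGrp g).hom := g.hom.hom.isMonHom_hom
      obtain ⟨d, hd⟩ := Chev.exists_lift_kernel j q hkq ((𝟙 U) ^ p) (by
        rw [← cancel_mono (isoOfGrp g).hom, MonObj.one_comp, MonObj.pow_comp, MonObj.pow_comp, Category.id_comp]
        exact Ga_pow_char p _)
      refine ⟨n + 1, ?_⟩
      have h1 : d ^ p ^ n = 1 := by
        calc d ^ p ^ n = d ≫ ((𝟙 J) ^ p ^ n) := by rw [MonObj.comp_pow, Category.comp_id]
          _ = 1 := by rw [hn, MonObj.comp_one]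
      rw [pow_succ', pow_mul, ← hd, ← MonObj.pow_comp, h1, MonObj.one_comp]
    · exfalso
      haveI : IsMonHom (isoOfGrp g).hom := g.hom.hom.isMonHom_hom
      haveI : IsMonHom (isoOfGrp g).inv := g.inv.hom.isMonHom_hom
      have hT : Red.IsTorus (Red.Gm (Spec (CommRingCat.of k))) := Deform.isTorus_of_split 1
        (Deform.SplitQuot.nonempty_DS_congr (LinearEquiv.funUnique (Fin 1) ℤ ℤ).toAddEquiv)
      have h1 : q ≫ (isoOfGrp g).hom = 1 := by
        haveI := GrpSchLib.AntiAffine.isSeparated_grp (Red.Gm (Spec (CommRingCat.of k)))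
        refine Chev.SemiAbExt.ext_points _ _ fun x => ?_
        rw [Borel.hom_torus_trivial hU hT (q ≫ (isoOfGrp g).hom) x, MonObj.comp_one]
      have hq1 : q = 1 := by
        rw [← cancel_mono (isoOfGrp g).hom, h1, MonObj.one_comp]
      refine hne (Set.eq_univ_of_forall fun b => ?_)
      obtain ⟨d, hd⟩ := Chev.exists_lift_kernel j q hkq (𝟙 U) (by rw [hq1, Category.id_comp])
      exact ⟨d.left b, by rw [← Scheme.Hom.comp_apply, ← Over.comp_left, hd]; rfl⟩

/-- A connected smooth group which is affine and proper is trivial. -/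
theorem isTrivialGrp_of_affine_proper (U : Over (Spec (CommRingCat.of k))) [GrpObj U] [IsAffine U.left]
    [Smooth U.hom] [ConnectedSpace U.left] [IsProper U.hom] : Red.IsTrivialGrp U := by
  haveI : Surjective (𝟙 U : U ⟶ U).left := inferInstanceAs (Surjective (𝟙 U.left))
  haveI := AntiAffineParts.subsingleton_of_affine (𝟙 U)
  haveI := GrpSchLib.isReduced_of_smooth_field U.hom
  exact Borel.isTrivialGrp_of_pts fun x => Chev.pimg_injective (Subsingleton.elim _ _)

include p in
/-- **In positive characteristic, an extension of an abelian variety by a connected unipotent group is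
anti-affine only if the unipotent part is trivial.** -/
theorem isTrivialGrp_of_antiAffine (hp : 0 < p) {G U A : Over (Spec (CommRingCat.of k))} [GrpObj G] [GrpObj U]
    [GrpObj A] [Smooth G.hom] [QuasiCompact G.hom] [ConnectedSpace G.left] [IsCommMonObj G]
    (i : U ⟶ G) [IsMonHom i] [IsClosedImmersion i.left] [Smooth U.hom] [ConnectedSpace U.left] [IsAffine U.left]
    (hU : Red.HasNoSubtorus k U) [IsProper A.hom] [Smooth A.hom] [ConnectedSpace A.left]
    (α : G ⟶ A) [IsMonHom α] [Surjective α.left] [Flat α.left] (hk : AlgGrp.IsKernel i α)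
    (hG : Function.Bijective G.hom.appTop) : Red.IsTrivialGrp U := by
  haveI := LinSect.mono_of_closed i
  haveI : IsCommMonObj U := AVRosati.SubAV.isCommMonObj_of_mono i
  haveI : IsClosedImmersion (𝟙 U : U ⟶ U).left := inferInstanceAs (IsClosedImmersion (𝟙 U.left))
  obtain ⟨n, hn⟩ := exists_pow_eq_one p (U₀ := U) ⊤ U (𝟙 U) hU Set.range_id
  haveI := Chev.quasiCompact_of_grp α
  haveI := LinSect.epi_of_fpqc α
  let N := p ^ n
  haveI : IsMonHom ((𝟙 G : G ⟶ G) ^ N) := Chev.SemiAb.isMonHom_pow (𝟙 G) N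
  obtain ⟨h, hh⟩ := exists_descQC α ((𝟙 G : G ⟶ G) ^ N) (fun T x y e => by
    obtain ⟨b, hb⟩ := Chev.exists_lift_kernel i α hk (y * x⁻¹) (by
      rw [MonObj.mul_comp, GrpObj.inv_comp, e, mul_inv_cancel])
    have h1 : (y * x⁻¹) ^ N = 1 := by
      calc (y * x⁻¹) ^ N = (b ≫ ((𝟙 U) ^ N)) ≫ i := by
            rw [MonObj.comp_pow, Category.comp_id, MonObj.pow_comp, hb]
        _ = 1 := by rw [hn, MonObj.comp_one, MonObj.one_comp]
    rw [MonObj.comp_pow, MonObj.comp_pow, Category.comp_id, Category.comp_id]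
    rw [mul_pow, inv_pow] at h1
    exact (mul_inv_eq_one.1 h1).symm)
  haveI : LocallyOfFiniteType α.left := by
    haveI : LocallyOfFiniteType (α.left ≫ A.hom) := by rw [Over.w α]; infer_instance
    exact locallyOfFiniteType_of_comp α.left A.hom
  haveI : IsLocallyNoetherian A.left := LocallyOfFiniteType.isLocallyNoetherian A.hom
  haveI : LocallyOfFinitePresentation α.left := inferInstance
  haveI : IsMonHom h := DiagMaps.isMonHom_of_epi_comp α h _ hh
  have hhα : h ≫ α = (𝟙 A : A ⟶ A) ^ N := by
    rw [← cancel_epi α, ← Category.assoc, hh, MonObj.pow_comp, MonObj.comp_pow, Category.id_comp, Category.comp_id]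
  obtain ⟨I, gI, f, jI, hf, hjI, hfjI, hjIc, hff, hfs, hIl, hIq⟩ := ImageFactor.exists_image h
  letI := gI
  haveI := hf; haveI := hjI; haveI := hjIc; haveI := hfs; haveI := hIl; haveI := hIq
  haveI : IsProper I.hom := by
    haveI : IsSeparated I.hom := AntiAffine.isSeparated_grp I
    haveI : UniversallyClosed I.hom := by
      haveI : UniversallyClosed (f.left ≫ I.hom) := by rw [Over.w f]; infer_instance
      exact UniversallyClosed.of_comp_surjective f.left I.hom
    exact {}
  obtain ⟨R, gR, q, hq, hqf, hqs, hRl, hRq, hkR⟩ := Chev.exists_quotient jI (fun T g x => ⟨x, by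
    rw [Deform.Extension.mul_comm_of g, mul_inv_cancel_right]⟩)
  letI := gR
  haveI := hq; haveI := hqf; haveI := hqs; haveI := hRl; haveI := hRq
  have hhq : h ≫ q = 1 := by
    rw [← hfjI, Category.assoc, show jI ≫ q = 1 from by rw [hkR.w, Hom.one_def], MonObj.comp_one]
  haveI : IsReduced G.left := GrpSchLib.isReduced_of_smooth_field G.hom
  haveI : IsReduced R.left := FBaseLib.isReduced_of_flat_surjective q.left
  obtain ⟨J, gJ, q', c, hq', hc, hJa, hcc, hJl, hq's, hqc⟩ := AntiAffineParts.exists_affine_image (i ≫ q)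
  letI := gJ
  haveI := hJa; haveI := hcc
  haveI : GeometricallyConnected A.hom := H23.GeomConn.of_point k A.hom η[A].left (Over.w η[A])
  haveI := AVDual.geometricallyIntegral_of_smooth A
  haveI := AVMulN.surjective_pow (A := A) N (Nat.one_le_iff_ne_zero.2 (pow_ne_zero n hp.ne'))
  have hrange : Set.range q.left ⊆ Set.range c.left := by
    refine Chev.mem_of_pts q c.left.isClosedEmbedding.isClosed_range fun g => ?_
    obtain ⟨a, ha⟩ := Borel.exists_pt_over ((𝟙 A : A ⟶ A) ^ N) (g ≫ α)
    obtain ⟨u, hu⟩ := Chev.exists_lift_kernel i α hk (g * (a ≫ h)⁻¹) (by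
      rw [MonObj.mul_comp, GrpObj.inv_comp, Category.assoc, hhα, ha, mul_inv_cancel])
    refine ⟨Chev.pimg (u ≫ q'), ?_⟩
    have e : (u ≫ q') ≫ c = g ≫ q := by
      rw [Category.assoc, hqc, ← Category.assoc, hu, MonObj.mul_comp, GrpObj.inv_comp, Category.assoc, hhq,
        MonObj.comp_one, inv_one, _root_.mul_one]
    rw [← e]
    rfl
  obtain ⟨r, hr⟩ := Chev.exists_lift_range c (𝟙 R) (by
    intro x _
    obtain ⟨z, hz⟩ := q.left.surjective x
    exact hrange ⟨z, hz⟩)
  haveI := LinSect.mono_of_closed c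
  haveI : IsIso c := ⟨r, by rw [← cancel_mono c, Category.assoc, hr, Category.comp_id, Category.id_comp], hr⟩
  haveI : IsIso c.left := ((Over.forget _).mapIso (asIso c)).isIso_hom
  haveI : IsAffine R.left := IsAffine.of_isIso (inv c.left)
  have hq1 : q = 1 := AntiAffineParts.eq_one_of_isAffine hG q (by rw [IsMonHom.one_hom, MonObj.one_eq_one])
  obtain ⟨d, hd⟩ := Chev.exists_lift_kernel jI q hkR (𝟙 G) (by rw [hq1, MonObj.comp_one])
  haveI := LinSect.mono_of_closed jI
  haveI : IsIso jI := ⟨d, by rw [← cancel_mono jI, Category.assoc, hd, Category.comp_id, Category.id_comp], hd⟩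
  haveI : IsIso d.left := by
    haveI : IsIso d := by
      rw [show d = inv jI from IsIso.eq_inv_of_inv_hom_id hd]; infer_instance
    exact ((Over.forget _).mapIso (asIso d)).isIso_hom
  haveI : IsProper G.hom := by rw [← Over.w d]; infer_instance
  haveI : IsProper U.hom := by rw [← Over.w i]; infer_instance
  exact isTrivialGrp_of_affine_proper U

end Groth.Agent.Deform.AntiUnip
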